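import Mathlib
import Cfsg.Agent.H51.Mult

/-!
# Schur multipliers: criteria for `NoCov p X` from explicit elements

* `noCov_sq`: a subgroup `⟨x, y⟩` of `p'`-index, `x y = y x`, `x ^ p = 1`, and an element `g` with
  `g x g⁻¹ = x ^ a y ^ b`, `g y g⁻¹ = x ^ c y ^ d`, `p ∤ a d - b c - 1`.
* `noCov_extra`: `p` odd, a subgroup `⟨x, y⟩` of `p'`-index, `c = [x, y] ≠ 1` commutes with `x` and `y`, `x ^ p = 1`,
  and an element `t` with `t x t⁻¹ = x⁻¹ c ^ i`, `t y t⁻¹ = y⁻¹ c ^ j`.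
-/

set_option autoImplicit false
set_option linter.style.haveILetI false
set_option linter.unusedVariables false

namespace Cfsg.Agent.H51.Crit

open Subgroup Cfsg.Agent.H51.Mult
open scoped commutatorElement

universe u v

section calc1

variable {L : Type*} [Group L]

/-- `a ^ m b ^ n = k ^ (m n) b ^ n a ^ m` if `a b = k b a` with `k` central -/
theorem zpow_swap {a b k : L} (hk : ∀ g, k * g = g * k) (h : a * b = k * (b * a)) (m n : ℤ) :
    a ^ m * b ^ n = k ^ (m * n) * (b ^ n * a ^ m) := by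
  have hkz : ∀ (j : ℤ) (g : L), k ^ j * g = g * k ^ j := fun j g =>
    (show Commute k g from hk g).zpow_left j
  -- conjugation by `b`
  have h1 : ∀ m : ℤ, a ^ m * b = k ^ m * (b * a ^ m) := by
    intro m
    have h2 : b⁻¹ * a * b = k * a := by
      calc b⁻¹ * a * b = b⁻¹ * (a * b) := by group
        _ = b⁻¹ * (k * (b * a)) := by rw [h]
        _ = b⁻¹ * (k * b) * a := by group
        _ = b⁻¹ * (b * k) * a := by rw [hk]
        _ = k * a := by group
    have h3 : b⁻¹ * a ^ m * b = k ^ m * a ^ m := by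
      have h4 : (b⁻¹ * a * b) ^ m = b⁻¹ * a ^ m * b := by
        have := conj_zpow (i := m) (a := b⁻¹) (b := a)
        rwa [inv_inv] at this
      rw [← h4, h2]
      exact (show Commute k a from hk a).mul_zpow m
    calc a ^ m * b = b * (b⁻¹ * a ^ m * b) := by group
      _ = b * (k ^ m * a ^ m) := by rw [h3]
      _ = (b * k ^ m) * a ^ m := by group
      _ = (k ^ m * b) * a ^ m := by rw [hkz]
      _ = k ^ m * (b * a ^ m) := by group
  have h2 : a ^ m * b * (a ^ m)⁻¹ = k ^ m * b := by rw [h1]; group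
  have h3 : a ^ m * b ^ n * (a ^ m)⁻¹ = k ^ (m * n) * b ^ n := by
    rw [← conj_zpow, h2, (show Commute (k ^ m) b from hkz m b).mul_zpow, ← zpow_mul]
  calc a ^ m * b ^ n = (a ^ m * b ^ n * (a ^ m)⁻¹) * a ^ m := by group
    _ = k ^ (m * n) * b ^ n * a ^ m := by rw [h3]
    _ = _ := by group

/-- commutators of products of powers -/
theorem comm_zpow {a b k : L} (hk : ∀ g, k * g = g * k) (h : a * b = k * (b * a)) (m n r s : ℤ) :
    (a ^ m * b ^ n) * (a ^ r * b ^ s) = k ^ (m * s - n * r) * ((a ^ r * b ^ s) * (a ^ m * b ^ n)) := by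
  have hkz : ∀ (j : ℤ) (g : L), k ^ j * g = g * k ^ j := fun j g =>
    (show Commute k g from hk g).zpow_left j
  have e1 : b ^ n * a ^ r = k ^ (-(r * n)) * (a ^ r * b ^ n) := by
    rw [zpow_swap hk h r n, ← mul_assoc, ← zpow_add, neg_add_cancel, zpow_zero, one_mul]
  have e2 : b ^ s * a ^ m = k ^ (-(m * s)) * (a ^ m * b ^ s) := by
    rw [zpow_swap hk h m s, ← mul_assoc, ← zpow_add, neg_add_cancel, zpow_zero, one_mul]
  have f1 : (a ^ m * b ^ n) * (a ^ r * b ^ s) = k ^ (-(r * n)) * (a ^ (m + r) * b ^ (n + s)) := by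
    calc (a ^ m * b ^ n) * (a ^ r * b ^ s) = a ^ m * (b ^ n * a ^ r) * b ^ s := by group
      _ = a ^ m * (k ^ (-(r * n)) * (a ^ r * b ^ n)) * b ^ s := by rw [e1]
      _ = (a ^ m * k ^ (-(r * n))) * (a ^ r * b ^ n * b ^ s) := by group
      _ = k ^ (-(r * n)) * a ^ m * (a ^ r * b ^ n * b ^ s) := by rw [← hkz]
      _ = _ := by rw [zpow_add, zpow_add]; group
  have f2 : (a ^ r * b ^ s) * (a ^ m * b ^ n) = k ^ (-(m * s)) * (a ^ (m + r) * b ^ (n + s)) := by
    calc (a ^ r * b ^ s) * (a ^ m * b ^ n) = a ^ r * (b ^ s * a ^ m) * b ^ n := by group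
      _ = a ^ r * (k ^ (-(m * s)) * (a ^ m * b ^ s)) * b ^ n := by rw [e2]
      _ = (a ^ r * k ^ (-(m * s))) * (a ^ m * b ^ s * b ^ n) := by group
      _ = k ^ (-(m * s)) * a ^ r * (a ^ m * b ^ s * b ^ n) := by rw [← hkz]
      _ = _ := by rw [add_comm m r, add_comm n s, zpow_add, zpow_add]; group
  rw [f1, f2, ← mul_assoc (k ^ (m * s - n * r)), ← zpow_add]
  congr 2
  ring

theorem mul_comm_of_comm {a b k : L} : ⁅a, b⁆ = k ↔ a * b = k * (b * a) := by
  rw [commutatorElement_def]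
  constructor
  · rintro rfl; group
  · intro h; rw [h]; group

/-- the relation between lifts is not changed by central factors -/
theorem rel_central {a b k z w : L} (hz : ∀ g, z * g = g * z) (hw : ∀ g, w * g = g * w) :
    (a * z) * (b * w) = k * ((b * w) * (a * z)) ↔ a * b = k * (b * a) := by
  have e1 : (a * z) * (b * w) = a * b * (z * w) := by
    calc (a * z) * (b * w) = a * (z * b) * w := by group
      _ = a * (b * z) * w := by rw [hz]
      _ = _ := by group
  have e2 : k * ((b * w) * (a * z)) = k * (b * a) * (z * w) := by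
    calc k * ((b * w) * (a * z)) = k * (b * (w * a) * z) := by group
      _ = k * (b * (a * w) * z) := by rw [hw]
      _ = k * (b * a) * (w * z) := by group
      _ = _ := by rw [hw z]
  rw [e1, e2, mul_left_inj]

end calc1

section lifts

variable {L : Type u} {X : Type v} [Group L] [Group X] {π : L →* X}

theorem exists_central (h : PCE π) {x y : L} (hxy : π x = π y) : ∃ z, π z = 1 ∧ x = y * z :=
  ⟨y⁻¹ * x, by rw [map_mul, map_inv, hxy, inv_mul_cancel], by group⟩

theorem zpow_eq_one_of_dvd {k : L} {p : ℕ} (hk : k ^ p = 1) {m : ℤ} (hm : (p : ℤ) ∣ m) : k ^ m = 1 := by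
  obtain ⟨j, rfl⟩ := hm
  rw [zpow_mul, zpow_natCast, hk, one_zpow]

/-- `k ^ p = 1`, `k ^ m = 1`, `p ∤ m`: `k = 1` -/
theorem eq_one_of_zpow {k : L} {p : ℕ} (hp : p.Prime) (hk : k ^ p = 1) {m : ℤ} (hm : ¬ (p : ℤ) ∣ m)
    (h : k ^ m = 1) : k = 1 := by
  have h1 : (orderOf k : ℤ) ∣ m := orderOf_dvd_iff_zpow_eq_one.2 h
  rcases (Nat.dvd_prime hp).1 (orderOf_dvd_of_pow_eq_one hk) with h2 | h2
  · exact orderOf_eq_one_iff.1 h2
  · rw [h2] at h1
    exact absurd h1 hm

theorem ker_pow (h : PCE π) {p : ℕ} (hc : Nat.card π.ker = p) {z : L} (hz : π z = 1) : z ^ p = 1 := by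
  have h1 : (⟨z, MonoidHom.mem_ker.2 hz⟩ : π.ker) ^ p = 1 := by rw [← hc, pow_card_eq_one']
  exact congrArg Subtype.val h1

/-- the preimage of `⟨x, y⟩` -/
theorem comap_closure_pair (h : PCE π) {x y : X} {α β : L} (hα : π α = x) (hβ : π β = y) :
    (closure {x, y} : Subgroup X).comap π = closure {α, β} ⊔ π.ker := by
  have h1 : (closure {x, y} : Subgroup X) = (closure {α, β}).map π := by
    rw [MonoidHom.map_closure, Set.image_pair, hα, hβ]
  rw [h1, Subgroup.comap_map_eq]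

/-- If the commutator subgroup of the preimage of a subgroup of `p'`-index meets the kernel trivially: contradiction. -/
theorem false_of_comm [Finite L] (h : PCE π) {p : ℕ} (hp : p.Prime) (hc : Nat.card π.ker = p) {H : Subgroup X}
    (hH : ¬ p ∣ H.index) (hD : ∀ z ∈ ⁅H.comap π, H.comap π⁆, π z = 1 → z = 1) : False := by
  have h1 := h.le_commutator_comap hp (IsPGroup.of_card (n := 1) (by rw [hc, pow_one])) hH
  have h2 : π.ker = ⊥ := by
    rw [eq_bot_iff]
    intro z hz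
    exact hD z (h1 hz) hz
  rw [h2, Subgroup.card_bot] at hc
  exact hp.one_lt.ne hc

end lifts

section tools

variable {L : Type u} [Group L]

/-- the commutator subgroup of `⟨S⟩` is contained in `M` if the generators normalise `M` and commute modulo `M` -/
theorem commutator_closure_le {S : Set L} {M : Subgroup L}
    (hn : ∀ s ∈ S, ∀ m ∈ M, s * m * s⁻¹ ∈ M ∧ s⁻¹ * m * s ∈ M) (hc : ∀ s ∈ S, ∀ t ∈ S, ⁅s, t⁆ ∈ M) :
    ⁅closure S, closure S⁆ ≤ M := by
  -- the elements normalising `M`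
  have hN : ∀ u ∈ closure S, ∀ m ∈ M, u * m * u⁻¹ ∈ M ∧ u⁻¹ * m * u ∈ M := by
    intro u hu
    induction hu using closure_induction with
    | mem s hs => exact hn s hs
    | one => intro m hm; simpa using hm
    | mul a b _ _ ha hb =>
      intro m hm
      constructor
      · have : a * b * m * (a * b)⁻¹ = a * (b * m * b⁻¹) * a⁻¹ := by group
        rw [this]; exact (ha _ (hb m hm).1).1
      · have : (a * b)⁻¹ * m * (a * b) = b⁻¹ * (a⁻¹ * m * a) * b := by group
        rw [this]; exact (hb _ (ha m hm).2).2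
    | inv a _ ha =>
      intro m hm
      rw [inv_inv]
      exact ⟨(ha m hm).2, (ha m hm).1⟩
  have h1 : ∀ t ∈ S, ∀ u ∈ closure S, ⁅u, t⁆ ∈ M := by
    intro t ht u hu
    induction hu using closure_induction with
    | mem s hs => exact hc s hs t ht
    | one => rw [commutatorElement_one_left]; exact one_mem _
    | mul a b ha' hb' ha hb =>
      have : ⁅a * b, t⁆ = (a * ⁅b, t⁆ * a⁻¹) * ⁅a, t⁆ := by simp only [commutatorElement_def]; group
      rw [this]
      exact mul_mem (hN a ha' _ hb).1 ha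
    | inv a ha' ha =>
      have : ⁅a⁻¹, t⁆ = a⁻¹ * ⁅a, t⁆⁻¹ * a := by simp only [commutatorElement_def]; group
      rw [this]
      exact (hN a ha' _ (inv_mem ha)).2
  rw [commutator_le]
  intro u hu v hv
  induction hv using closure_induction with
  | mem s hs => exact h1 s hs u hu
  | one => rw [commutatorElement_one_right]; exact one_mem _
  | mul a b ha' hb' ha hb =>
    have : ⁅u, a * b⁆ = ⁅u, a⁆ * (a * ⁅u, b⁆ * a⁻¹) := by simp only [commutatorElement_def]; group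
    rw [this]
    exact mul_mem ha (hN a ha' _ hb).1
  | inv a ha' ha =>
    have : ⁅u, a⁻¹⁆ = a⁻¹ * ⁅u, a⁆⁻¹ * a := by simp only [commutatorElement_def]; group
    rw [this]
    exact (hN a ha' _ (inv_mem ha)).2

variable {X : Type v} [Group X] {π : L →* X}

/-- the commutator subgroup of the preimage of `⟨π(S)⟩` -/
theorem commutator_comap_le (h : PCE π) {S : Set L} {M : Subgroup L}
    (hn : ∀ s ∈ S, ∀ m ∈ M, s * m * s⁻¹ ∈ M ∧ s⁻¹ * m * s ∈ M) (hc : ∀ s ∈ S, ∀ t ∈ S, ⁅s, t⁆ ∈ M) :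
    ⁅(closure (π '' S) : Subgroup X).comap π, (closure (π '' S) : Subgroup X).comap π⁆ ≤ M := by
  have h1 : (closure (π '' S) : Subgroup X).comap π = closure (S ∪ (π.ker : Set L)) := by
    rw [← MonoidHom.map_closure, Subgroup.comap_map_eq, Subgroup.closure_union, Subgroup.closure_eq]
  rw [h1]
  have hz : ∀ z ∈ (π.ker : Set L), ∀ g : L, ⁅z, g⁆ = 1 ∧ ⁅g, z⁆ = 1 := by
    intro z hz g
    have h2 := h.comm (MonoidHom.mem_ker.1 hz) g
    exact ⟨commutatorElement_eq_one_iff_mul_comm.2 h2, commutatorElement_eq_one_iff_mul_comm.2 h2.symm⟩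
  apply commutator_closure_le
  · rintro s (hs | hs) m hm
    · exact hn s hs m hm
    · have h2 := h.comm (MonoidHom.mem_ker.1 hs) m
      constructor
      · rw [h2, mul_inv_cancel_right]; exact hm
      · rw [mul_assoc, ← h2, inv_mul_cancel_left]; exact hm
  · rintro s (hs | hs) t (ht | ht)
    · exact hc s hs t ht
    · rw [(hz t ht s).2]; exact one_mem _
    · rw [(hz s hs t).1]; exact one_mem _
    · rw [(hz s hs t).1]; exact one_mem _

end tools

section sq

variable {X : Type v} [Group X]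

/-- **Sylow `p`-subgroup of order `p²`.** -/
theorem noCov_sq [Finite X] {p : ℕ} (hp : p.Prime) {x y g : X} (hx : x ^ p = 1) (hxy : x * y = y * x)
    (hidx : ¬ p ∣ (closure {x, y} : Subgroup X).index) {a b c d : ℤ} (hgx : g * x * g⁻¹ = x ^ a * y ^ b)
    (hgy : g * y * g⁻¹ = x ^ c * y ^ d) (hdet : ¬ (p : ℤ) ∣ a * d - b * c - 1) : NoCov p X := by
  intro L _ _ π h hc
  obtain ⟨α, hα⟩ := h.surj x
  obtain ⟨β, hβ⟩ := h.surj y
  obtain ⟨γ, hγ⟩ := h.surj g
  set k := ⁅α, β⁆ with hk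
  have hk1 : π k = 1 := by
    rw [hk, map_commutatorElement, hα, hβ, commutatorElement_eq_one_iff_mul_comm, hxy]
  have hkc := h.comm hk1
  have hrel : α * β = k * (β * α) := mul_comm_of_comm.1 rfl
  obtain ⟨z, hz, hz'⟩ := exists_central h (x := γ * α * γ⁻¹) (y := α ^ a * β ^ b)
    (by rw [map_mul, map_mul, map_mul, map_inv, map_zpow, map_zpow, hα, hβ, hγ, hgx])
  obtain ⟨w, hw, hw'⟩ := exists_central h (x := γ * β * γ⁻¹) (y := α ^ c * β ^ d)
    (by rw [map_mul, map_mul, map_mul, map_inv, map_zpow, map_zpow, hα, hβ, hγ, hgy])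
  have h1 : (γ * α * γ⁻¹) * (γ * β * γ⁻¹) = k * ((γ * β * γ⁻¹) * (γ * α * γ⁻¹)) := by
    calc (γ * α * γ⁻¹) * (γ * β * γ⁻¹) = γ * (α * β) * γ⁻¹ := by group
      _ = γ * (k * (β * α)) * γ⁻¹ := by rw [← hrel]
      _ = (γ * k) * (β * α) * γ⁻¹ := by group
      _ = (k * γ) * (β * α) * γ⁻¹ := by rw [hkc]
      _ = _ := by group
  rw [hz', hw', rel_central (h.comm hz) (h.comm hw)] at h1
  have h2 := comm_zpow hkc hrel a b c d
  rw [h1] at h2
  have h3 : k = k ^ (a * d - b * c) := mul_right_cancel h2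
  have hkp : k ^ p = 1 := ker_pow h hc hk1
  have h4 : k ^ (a * d - b * c - 1) = 1 := by
    rw [zpow_sub, ← h3, zpow_one, mul_inv_cancel]
  have h5 : k = 1 := eq_one_of_zpow hp hkp hdet h4
  rw [h5, one_mul] at hrel
  -- the preimage is commutative
  refine false_of_comm h hp hc hidx ?_
  have hS : ({x, y} : Set X) = π '' {α, β} := by rw [Set.image_pair, hα, hβ]
  have h7 := commutator_comap_le h (S := {α, β}) (M := ⊥) (by
    intro s _ m hm
    rw [mem_bot] at hm ⊢
    subst hm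
    simp) (by
    intro s hs t ht
    rw [mem_bot, commutatorElement_eq_one_iff_mul_comm]
    rcases hs with rfl | rfl <;> rcases ht with rfl | rfl
    · rfl
    · exact hrel
    · exact hrel.symm
    · rfl)
  rw [← hS] at h7
  intro z hz _
  exact mem_bot.1 (h7 hz)

end sq

section extra

variable {X : Type v} [Group X]

/-- the equations for `⁅c, x⁆`, `⁅c, y⁆` in a cover -/
theorem noCov_extra_aux {L : Type u} [Group L] [Finite L] {π : L →* X} (h : PCE π) {p : ℕ} (hp : p.Prime)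
    (hc : Nat.card π.ker = p) {α β : L}
    (hck : ⁅π α, π β⁆ ≠ 1) (hx : (π α) ^ p = 1)
    (hk : ⁅α, β⁆ * α = α * ⁅α, β⁆) (hl : ⁅α, β⁆ * β = β * ⁅α, β⁆)
    (hidx : ¬ p ∣ (closure {π α, π β} : Subgroup X).index) : False := by
  set κ := ⁅α, β⁆ with hκ
  have hS : ({π α, π β} : Set X) = π '' {α, β} := by rw [Set.image_pair]
  have hcomm : ∀ s ∈ ({α, β} : Set L), ∀ m ∈ zpowers κ, s * m = m * s := by
    intro s hs m hm
    obtain ⟨j, rfl⟩ := mem_zpowers_iff.1 hm
    have h1 : Commute κ s := by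
      rcases hs with rfl | rfl
      · exact hk
      · exact hl
    exact (h1.zpow_left j).symm
  have h7 := commutator_comap_le h (S := {α, β}) (M := zpowers κ) (by
    intro s hs m hm
    have h1 := hcomm s hs m hm
    constructor
    · rw [h1, mul_inv_cancel_right]; exact hm
    · rw [mul_assoc, ← h1, inv_mul_cancel_left]; exact hm) (by
    intro s hs t ht
    rcases hs with rfl | rfl <;> rcases ht with rfl | rfl
    · rw [commutatorElement_self]; exact one_mem _
    · exact mem_zpowers _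
    · rw [← commutatorElement_inv]; exact inv_mem (mem_zpowers _)
    · rw [commutatorElement_self]; exact one_mem _)
  rw [← hS] at h7
  -- `κ ^ p = 1`
  have h8 : α ^ p * β = β * α ^ p := by
    exact h.comm (by rw [map_pow, hx]) β
  have h9 : κ ^ p = 1 := by
    have h10 : β⁻¹ * α * β = κ * α := by
      have : κ * α = α * κ := hk
      have h11 : α * β = κ * (β * α) := mul_comm_of_comm.1 rfl
      have h12 : κ * β = β * κ := hl
      calc β⁻¹ * α * β = β⁻¹ * (α * β) := by group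
        _ = β⁻¹ * (κ * (β * α)) := by rw [← h11]
        _ = β⁻¹ * (κ * β) * α := by group
        _ = β⁻¹ * (β * κ) * α := by rw [h12]
        _ = κ * α := by group
    have h11 : β⁻¹ * α ^ p * β = κ ^ p * α ^ p := by
      have h12 : (β⁻¹ * α * β) ^ p = β⁻¹ * α ^ p * β := by
        have := conj_pow (i := p) (a := β⁻¹) (b := α)
        rwa [inv_inv] at this
      rw [← h12, h10]
      exact (show Commute κ α from hk).mul_pow p
    rw [mul_assoc, h8, inv_mul_cancel_left] at h11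
    exact (mul_eq_right.1 h11.symm)
  refine false_of_comm h hp hc hidx ?_
  intro z hz hz1
  obtain ⟨j, rfl⟩ := mem_zpowers_iff.1 (h7 hz)
  have h10 : (π κ) ^ j = 1 := by rw [← map_zpow]; exact hz1
  have h11 : π κ ≠ 1 := by rw [hκ, map_commutatorElement]; exact hck
  by_contra h12
  by_cases hd : (p : ℤ) ∣ j
  · exact h12 (zpow_eq_one_of_dvd h9 hd)
  · exact h11 (eq_one_of_zpow hp (by rw [← map_pow, h9, map_one]) hd h10)

/-- **Extraspecial Sylow subgroup `⟨x, y⟩` of order `p³` with an element inverting it modulo the centre.** -/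
theorem noCov_extra {p : ℕ} (hp : p.Prime) (hp2 : p ≠ 2) {x y t : X} (hcx : ⁅x, y⁆ * x = x * ⁅x, y⁆)
    (hcy : ⁅x, y⁆ * y = y * ⁅x, y⁆) (hc1 : ⁅x, y⁆ ≠ 1) (hx : x ^ p = 1)
    (hidx : ¬ p ∣ (closure {x, y} : Subgroup X).index) {i j : ℤ} (htx : t * x * t⁻¹ = x⁻¹ * ⁅x, y⁆ ^ i)
    (hty : t * y * t⁻¹ = y⁻¹ * ⁅x, y⁆ ^ j) : NoCov p X := by
  intro L _ _ π h hc
  obtain ⟨α, rfl⟩ := h.surj x
  obtain ⟨β, rfl⟩ := h.surj y
  obtain ⟨τ, rfl⟩ := h.surj t
  set κ := ⁅α, β⁆ with hκ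
  have hπκ : π κ = ⁅π α, π β⁆ := by rw [hκ, map_commutatorElement]
  rw [← hπκ] at hcx hcy hc1 htx hty
  set k := ⁅κ, α⁆ with hk
  set l := ⁅κ, β⁆ with hl
  have hk1 : π k = 1 := by
    rw [hk, map_commutatorElement, commutatorElement_eq_one_iff_mul_comm, hcx]
  have hl1 : π l = 1 := by
    rw [hl, map_commutatorElement, commutatorElement_eq_one_iff_mul_comm, hcy]
  have hkc := h.comm hk1
  have hlc := h.comm hl1
  have rk : κ * α = k * (α * κ) := mul_comm_of_comm.1 rfl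
  have rl : κ * β = l * (β * κ) := mul_comm_of_comm.1 rfl
  obtain ⟨z, hz, hz'⟩ := exists_central h (x := τ * α * τ⁻¹) (y := α⁻¹ * κ ^ i)
    (by rw [map_mul, map_mul, map_mul, map_inv, map_inv, map_zpow, htx])
  obtain ⟨w, hw, hw'⟩ := exists_central h (x := τ * β * τ⁻¹) (y := β⁻¹ * κ ^ j)
    (by rw [map_mul, map_mul, map_mul, map_inv, map_inv, map_zpow, hty])
  -- the conjugate of `κ`
  have hκ1 : π (τ * κ * τ⁻¹) = π κ := by
    have e1 : τ * κ * τ⁻¹ = ⁅τ * α * τ⁻¹, τ * β * τ⁻¹⁆ := by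
      rw [hκ]; simp only [commutatorElement_def]; group
    have c1 : Commute (π κ) (π α) := hcx
    have c2 : Commute (π κ) (π β) := hcy
    have hcc : π κ = π α * π β * (π α)⁻¹ * (π β)⁻¹ := by rw [hπκ, commutatorElement_def]
    rw [e1, map_commutatorElement, hz', hw', map_mul (f := π) (x := α⁻¹ * κ ^ i), map_mul (f := π) (x := β⁻¹ * κ ^ j),
      hz, hw, mul_one, mul_one, map_mul, map_mul, map_inv, map_inv, map_zpow, map_zpow]
    generalize π κ = c at *
    generalize π α = x at *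
    generalize π β = y at *
    have k1 : Commute (c ^ i) x := c1.zpow_left i
    have k2 : Commute (c ^ i) y := c2.zpow_left i
    have k3 : Commute (c ^ j) x := c1.zpow_left j
    have k4 : Commute (c ^ j) y := c2.zpow_left j
    have k5 : Commute (c ^ i) (c ^ j) := (Commute.refl c).zpow_zpow i j
    have m1 : Commute (c ^ i) (y⁻¹ * c ^ j) := k2.inv_right.mul_right k5
    have m2 : Commute (c ^ j) x⁻¹ := k3.inv_right
    have e2 : ⁅x⁻¹ * c ^ i, y⁻¹ * c ^ j⁆ = ⁅x⁻¹, y⁻¹⁆ := by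
      simp only [commutatorElement_def, mul_inv_rev, inv_inv]
      calc x⁻¹ * c ^ i * (y⁻¹ * c ^ j) * ((c ^ i)⁻¹ * x) * ((c ^ j)⁻¹ * y)
          = x⁻¹ * (c ^ i * (y⁻¹ * c ^ j)) * (c ^ i)⁻¹ * x * ((c ^ j)⁻¹ * y) := by group
        _ = x⁻¹ * ((y⁻¹ * c ^ j) * c ^ i) * (c ^ i)⁻¹ * x * ((c ^ j)⁻¹ * y) := by rw [m1.eq]
        _ = x⁻¹ * y⁻¹ * (c ^ j * x) * ((c ^ j)⁻¹ * y) := by group
        _ = x⁻¹ * y⁻¹ * (x * c ^ j) * ((c ^ j)⁻¹ * y) := by rw [k3.eq]
        _ = x⁻¹ * y⁻¹ * x * y := by group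
    rw [e2, commutatorElement_def, inv_inv, inv_inv]
    -- `x⁻¹ y⁻¹ x y = c`
    have e3 : x * y = c * (y * x) := by rw [hcc]; group
    have e4 : Commute c (y * x) := c2.mul_right c1
    calc x⁻¹ * y⁻¹ * x * y = (y * x)⁻¹ * (x * y) := by group
      _ = (y * x)⁻¹ * (c * (y * x)) := by rw [e3]
      _ = (y * x)⁻¹ * ((y * x) * c) := by rw [e4.eq]
      _ = c := by group
  obtain ⟨v, hv, hv'⟩ := exists_central h hκ1
  -- conjugate the relations
  have key : ∀ {γ m : L} {q : ℤ}, (∀ g, m * g = g * m) → κ * γ = m * (γ * κ) → ∀ {s : L}, π s = 1 →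
      τ * γ * τ⁻¹ = γ⁻¹ * κ ^ q * s → m * m = 1 := by
    intro γ m q hm hγ s hs hτ
    have h1 : (τ * κ * τ⁻¹) * (τ * γ * τ⁻¹) = m * ((τ * γ * τ⁻¹) * (τ * κ * τ⁻¹)) := by
      calc (τ * κ * τ⁻¹) * (τ * γ * τ⁻¹) = τ * (κ * γ) * τ⁻¹ := by group
        _ = τ * (m * (γ * κ)) * τ⁻¹ := by rw [hγ]
        _ = (τ * m) * (γ * κ) * τ⁻¹ := by group
        _ = (m * τ) * (γ * κ) * τ⁻¹ := by rw [hm]
        _ = _ := by group
    rw [hv', hτ, rel_central (h.comm hv) (h.comm hs)] at h1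
    -- `κ γ⁻¹ = m⁻¹ γ⁻¹ κ`
    have h2 : κ * γ⁻¹ = m⁻¹ * (γ⁻¹ * κ) := by
      have hmi : m⁻¹ * γ⁻¹ = γ⁻¹ * m⁻¹ := by
        have := hm γ
        calc m⁻¹ * γ⁻¹ = (γ * m)⁻¹ := by group
          _ = (m * γ)⁻¹ := by rw [this]
          _ = _ := by group
      calc κ * γ⁻¹ = γ⁻¹ * (γ * κ) * γ⁻¹ := by group
        _ = γ⁻¹ * (m⁻¹ * (κ * γ)) * γ⁻¹ := by rw [hγ]; group
        _ = (γ⁻¹ * m⁻¹) * κ := by group
        _ = (m⁻¹ * γ⁻¹) * κ := by rw [hmi]
        _ = _ := by group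
    have h3 : κ * (γ⁻¹ * κ ^ q) = m⁻¹ * ((γ⁻¹ * κ ^ q) * κ) := by
      calc κ * (γ⁻¹ * κ ^ q) = (κ * γ⁻¹) * κ ^ q := by group
        _ = m⁻¹ * (γ⁻¹ * κ) * κ ^ q := by rw [h2]
        _ = m⁻¹ * γ⁻¹ * (κ * κ ^ q) := by group
        _ = m⁻¹ * γ⁻¹ * (κ ^ q * κ) := by rw [((Commute.refl κ).zpow_right q).eq]
        _ = _ := by group
    rw [h3] at h1
    have h4 := mul_right_cancel h1
    calc m * m = m * m⁻¹ := by rw [h4]
      _ = 1 := mul_inv_cancel m
  have hp2' : ¬ (p : ℤ) ∣ 2 := by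
    intro h1
    have h2 : p ∣ 2 := by exact_mod_cast h1
    exact hp2 ((Nat.prime_dvd_prime_iff_eq hp Nat.prime_two).1 h2)
  have hk2 : k = 1 := eq_one_of_zpow hp (ker_pow h hc hk1) hp2' (by
    rw [zpow_two]; exact key hkc rk hz hz')
  have hl2 : l = 1 := eq_one_of_zpow hp (ker_pow h hc hl1) hp2' (by
    rw [zpow_two]; exact key hlc rl hw hw')
  rw [hk2, one_mul] at rk
  rw [hl2, one_mul] at rl
  exact noCov_extra_aux h hp hc (α := α) (β := β) (by rw [← hπκ]; exact hc1) hx rk rl hidx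

end extra

end Cfsg.Agent.H51.Crit
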