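import Cfsg.Agent.H51.LyThree
import Cfsg.Agent.Ly.CardDataFive

/-!
# The Schur multiplier of the Lyons group has order prime to 5
-/

set_option autoImplicit false

namespace Cfsg.Agent.H51.LyFive

open Cfsg.Agent.Ly.Mat7 Cfsg.Agent.Ly.Pres Cfsg.Agent.Ly.WalkCtx Cfsg.Agent.Ly.Upper Cfsg.Agent.Ly.Rep111
  Cfsg.Agent.Ly.CardLevel Cfsg.Agent.Ly.CardDataFive Cfsg.Agent.Ly.Final Cfsg.Agent.H51.Mult Cfsg.Agent.H51.Fit
open scoped commutatorElement

/-- the element of `Ly` given by a word in the generators of `G₂(5)` -/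
def W (v : List ℕ) : Cfsg.Spor.Ly := ev (X4 gens) v

theorem W_eq {v w : List ℕ} (h : eqW v w = true) : W v = W w := Cfsg.Agent.Ly.Index.data.wp v w h
theorem W_append (v w : List ℕ) : W (v ++ w) = W v * W w := ev_append _ v w
theorem W_inv (v : List ℕ) : W (invW v) = (W v)⁻¹ := ev_invW _ v
theorem W_nil : W [] = 1 := ev_nil _

/-- the words of four generators of the extraspecial group -/
def cw : Fin 4 → List ℕ := ![[2], [4, 2, 0], [5, 2, 1], [1, 2, 5]]

theorem pow5 (i : Fin 4) : W (cw i) ^ 5 = 1 := by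
  have h : ∀ i : Fin 4, eqW (cw i ++ cw i ++ cw i ++ cw i ++ cw i) [] = true := by decide +kernel
  have h1 := W_eq (h i)
  rw [W_append, W_append, W_append, W_append, W_nil] at h1
  rw [← h1]
  simp only [pow_succ, pow_zero, one_mul]

theorem conj_t (i : Fin 4) : W [0, 0] * W (cw i) * (W [0, 0])⁻¹ = W (cw i) ^ (2 : ℤ) := by
  have h : ∀ i : Fin 4, eqW ([0, 0] ++ cw i ++ invW [0, 0]) (cw i ++ cw i) = true := by decide +kernel
  have h1 := W_eq (h i)
  rw [W_append, W_append, W_append, W_inv] at h1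
  rw [h1, zpow_ofNat, pow_two]

theorem cen (i j l : Fin 4) : ⁅W (cw i), W (cw j)⁆ * W (cw l) = W (cw l) * ⁅W (cw i), W (cw j)⁆ := by
  have h : ∀ i j l : Fin 4, eqW (cw i ++ cw j ++ invW (cw i) ++ invW (cw j) ++ cw l)
      (cw l ++ (cw i ++ cw j ++ invW (cw i) ++ invW (cw j))) = true := by decide +kernel
  have h1 := W_eq (h i j l)
  simp only [W_append, W_inv] at h1
  rw [commutatorElement_def]
  exact h1

theorem order_t : W [0, 0] ^ 4 = 1 := by
  have h : eqW ([0, 0] ++ [0, 0] ++ [0, 0] ++ [0, 0]) [] = true := by decide +kernel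
  have h1 := W_eq h
  rw [W_append, W_append, W_append, W_nil] at h1
  rw [← h1]
  simp only [pow_succ, pow_zero, one_mul]

theorem comm_st : W [1] * W [0, 0] = W [0, 0] * W [1] := by
  have h : eqW ([1] ++ [0, 0]) ([0, 0] ++ [1]) = true := by decide +kernel
  have h1 := W_eq h
  rwa [W_append, W_append] at h1

/-- the commutator of the first two -/
def c5 : List ℕ := invW (cw 0) ++ invW (cw 1) ++ cw 0 ++ cw 1

theorem conj_s : ∀ i, (W [1])⁻¹ * W (cw i) * W [1] ∈ Subgroup.closure (Set.range fun i => W (cw i)) := by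
  have hm : ∀ i, W (cw i) ∈ Subgroup.closure (Set.range fun i => W (cw i)) :=
    fun i => Subgroup.subset_closure ⟨i, rfl⟩
  have hc5 : W c5 ∈ Subgroup.closure (Set.range fun i => W (cw i)) := by
    unfold c5
    rw [W_append, W_append, W_append, W_inv, W_inv]
    exact mul_mem (mul_mem (mul_mem (inv_mem (hm 0)) (inv_mem (hm 1))) (hm 0)) (hm 1)
  have e : ∀ i, (W [1])⁻¹ * W (cw i) * W [1] = W (invW [1] ++ cw i ++ [1]) := fun i => by
    rw [W_append, W_append, W_inv]
  intro i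
  rw [e]
  fin_cases i
  · have h : eqW (invW [1] ++ cw 0 ++ [1]) (cw 2) = true := by decide +kernel
    show W (invW [1] ++ cw 0 ++ [1]) ∈ _
    rw [W_eq h]; exact hm 2
  · have h : eqW (invW [1] ++ cw 1 ++ [1])
      (cw 0 ++ cw 0 ++ cw 0 ++ cw 0 ++ cw 1 ++ cw 2 ++ cw 3 ++ cw 3 ++ cw 3 ++ c5 ++ c5) = true := by decide +kernel
    show W (invW [1] ++ cw 1 ++ [1]) ∈ _
    rw [W_eq h]
    simp only [W_append]
    exact mul_mem (mul_mem (mul_mem (mul_mem (mul_mem (mul_mem (mul_mem (mul_mem (mul_mem (mul_mem (hm 0) (hm 0))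
      (hm 0)) (hm 0)) (hm 1)) (hm 2)) (hm 3)) (hm 3)) (hm 3)) hc5) hc5
  · have h : eqW (invW [1] ++ cw 2 ++ [1])
      (cw 0 ++ cw 0 ++ cw 2 ++ cw 2 ++ cw 2 ++ cw 3 ++ c5 ++ c5 ++ c5) = true := by decide +kernel
    show W (invW [1] ++ cw 2 ++ [1]) ∈ _
    rw [W_eq h]
    simp only [W_append]
    exact mul_mem (mul_mem (mul_mem (mul_mem (mul_mem (mul_mem (mul_mem (mul_mem (hm 0) (hm 0))
      (hm 2)) (hm 2)) (hm 2)) (hm 3)) hc5) hc5) hc5
  · have h : eqW (invW [1] ++ cw 3 ++ [1]) (cw 0) = true := by decide +kernel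
    show W (invW [1] ++ cw 3 ++ [1]) ∈ _
    rw [W_eq h]; exact hm 0

/-- the order of the Sylow subgroup -/
theorem dvd_card (T : Subgroup Cfsg.Spor.Ly) (h1 : gens 1 ∈ T) (h2 : (gens 0)⁻¹ * gens 2 * gens 0 ∈ T) :
    15625 ∣ Nat.card T := by
  have h3 : cl wF5_0 ≤ T.map rho := by
    rw [cl, Subgroup.closure_le]
    intro x hx
    have hx' : x = word [(1, true)] ∨ x = word [(0, false), (2, true), (0, true)] := by
      simpa [wF5_0] using hx
    rcases hx' with rfl | rfl
    · refine ⟨gens 1, h1, ?_⟩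
      rw [← rho_el, el_pos]
    · refine ⟨_, h2, ?_⟩
      rw [← rho_el]
      congr 1
  have h4 := Nat.card_congr (T.equivMapOfInjective rho Cfsg.Agent.Ly.Setup.rho_injective).toEquiv
  rw [h4]
  have : Finite (T.map rho) := Finite.of_equiv _ (T.equivMapOfInjective rho Cfsg.Agent.Ly.Setup.rho_injective).toEquiv
  exact dvdF5_0.trans (Subgroup.card_dvd_of_le h3)

/-- **The Schur multiplier of the Lyons group has order prime to 5.** -/
theorem noCov_five_ly : NoCov 5 Cfsg.Spor.Ly := by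
  have hs := LyThreeGrp.inv_conj (X := Cfsg.Spor.Ly) (S := Set.range fun i => W (cw i)) (g := W [1]) (by
    rintro _ ⟨i, rfl⟩; exact conj_s i)
  refine noCov_heis (by norm_num) (x := fun i => W (cw i)) (s := W [1]) (t := W [0, 0]) (m := 2) (k := 4)
    pow5 conj_t order_t (by norm_num) cen comm_st (fun i => ?_) ?_ (by norm_num) (by norm_num) (by norm_num)
  · have h1 : W (cw i) ∈ Subgroup.closure (Set.range fun i => W (cw i)) := Subgroup.subset_closure ⟨i, rfl⟩
    exact ⟨hs.2 _ h1, hs.1 _ h1⟩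
  · set T := Subgroup.closure (Set.range (fun i => W (cw i)) ∪ {W [1]}) with hT
    have e1 : W [1] = gens 1 := by
      show ev (X4 gens) [1] = gens 1
      rw [ev_cons, ev_nil, mul_one]; rfl
    have e2 : W (cw 1) = (gens 0)⁻¹ * gens 2 * gens 0 := by
      show ev (X4 gens) [4, 2, 0] = _
      rw [ev_cons, ev_cons, ev_cons, ev_nil, mul_one, mul_assoc]; rfl
    obtain ⟨q, hq⟩ := dvd_card T (by rw [← e1]; exact Subgroup.subset_closure (Or.inr rfl))
      (by rw [← e2]; exact Subgroup.subset_closure (Or.inl ⟨1, rfl⟩))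
    rintro ⟨r, hr⟩
    have h6 := T.card_mul_index
    rw [Cfsg.Agent.Ly.Setup.card_ly, hq, hr] at h6
    have h7 : (5 : ℕ) * (q * r) = 3312971456256 := by
      have h8 : (15625 : ℕ) * (5 * (q * r)) = 15625 * 3312971456256 := by
        calc (15625 : ℕ) * (5 * (q * r)) = 15625 * q * (5 * r) := by ring
          _ = 51765179004000000 := h6
          _ = 15625 * 3312971456256 := by norm_num
      exact Nat.eq_of_mul_eq_mul_left (by norm_num) h8
    omega

end Cfsg.Agent.H51.LyFive
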