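import Cfsg.Agent.SporadicB.ON45Word
import Cfsg.Agent.H51.Tools

/-!
# The triple cover of the O'Nan group

The preimage in `SL(45, 7)` of the image of the projective representation `rho` of the presented O'Nan group (faithful, if
the presented group is simple) is a central extension; the scalar `4 = (b c d g)⁵` lies in its commutator subgroup.
-/

set_option autoImplicit false

namespace Cfsg.Agent.H51.ONCover

open Subgroup
open Cfsg.Spor (ON)
open Cfsg.Spor.ON (Gen)
open Cfsg.Agent.SporadicB.ON45Word Cfsg.Agent.SporadicB.ON45Core Cfsg.Agent.SporadicB.ON45Rels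
open Cfsg.Agent.H51.Mult Cfsg.Agent.H51.Tools

/-- the preimage of the image of `rho` -/
def Y : Subgroup SL45 := rho.range.comap pr

/-- the homomorphism onto the presented group -/
noncomputable def q (hs : IsSimpleGroup ON) : Y →* ON :=
  (MonoidHom.ofInjective (rho_injective hs)).symm.toMonoidHom.comp
    ((pr.comp Y.subtype).codRestrict rho.range (fun y => y.2))

theorem rho_q (hs : IsSimpleGroup ON) (y : Y) : rho (q hs y) = pr (y : SL45) := by
  have h1 := (MonoidHom.ofInjective (rho_injective hs)).apply_symm_apply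
    (((pr.comp Y.subtype).codRestrict rho.range (fun y => y.2)) y)
  have h2 := congrArg Subtype.val h1
  rw [MonoidHom.ofInjective_apply] at h2
  exact h2

theorem q_surj (hs : IsSimpleGroup ON) : Function.Surjective (q hs) := by
  intro x
  obtain ⟨y, hy⟩ := QuotientGroup.mk'_surjective (Subgroup.center SL45) (rho x)
  refine ⟨⟨y, ⟨x, hy.symm⟩⟩, ?_⟩
  apply rho_injective hs
  rw [rho_q]
  exact hy

theorem center_of_q (hs : IsSimpleGroup ON) {y : Y} (h : q hs y = 1) : (y : SL45) ∈ Subgroup.center SL45 := by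
  have h1 := rho_q hs y
  rw [h, map_one] at h1
  exact (QuotientGroup.eq_one_iff (y : SL45)).1 h1.symm

theorem q_ker (hs : IsSimpleGroup ON) : (q hs).ker ≤ center Y := by
  intro y hy
  have h1 := center_of_q hs (MonoidHom.mem_ker.1 hy)
  rw [mem_center_iff]
  intro g
  exact Subtype.ext (mem_center_iff.1 h1 g)

theorem smul_pow_three (r : ZMod 7) : (r • (1 : M45)) ^ 3 = r ^ 3 • (1 : M45) := by
  rw [smul_pow, one_pow]

theorem cube (hs : IsSimpleGroup ON) (y : Y) (h : q hs y = 1) : y ^ 3 = 1 := by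
  have h1 := center_of_q hs h
  apply Subtype.ext
  apply Subtype.ext
  have e : (((y ^ 3 : Y) : SL45) : M45) = ((y : SL45) : M45) ^ 3 := by
    rw [Subgroup.coe_pow, Matrix.SpecialLinearGroup.coe_pow]
  rw [e]
  rcases center_cases h1 with h2 | h2 | h2 <;> rw [h2, smul_pow_three]
  · show (1 : ZMod 7) ^ 3 • (1 : M45) = 1
    rw [one_pow, one_smul]
  · have : (2 : ZMod 7) ^ 3 = 1 := by decide
    rw [this, one_smul]; rfl
  · have : (4 : ZMod 7) ^ 3 = 1 := by decide
    rw [this, one_smul]; rfl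

/-- the generators -/
def s (x : Gen) : Y := ⟨sl x, by
  show pr (sl x) ∈ rho.range
  exact ⟨on x, rho_on x⟩⟩

theorem sq_one {x : Gen} (h : ((sl x : SL45) : M45) * (sl x : SL45) = 1) : s x ^ 4 = 1 := by
  apply Subtype.ext
  apply Subtype.ext
  have e : (((s x ^ 4 : Y) : SL45) : M45) = ((sl x : SL45) : M45) ^ 4 := by
    rw [Subgroup.coe_pow, Matrix.SpecialLinearGroup.coe_pow]; rfl
  rw [e]
  have : ((sl x : SL45) : M45) ^ 4 = (((sl x : SL45) : M45) * (sl x : SL45)) ^ 2 := by
    rw [← pow_two, ← pow_mul]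
  rw [this, h, one_pow]; rfl

theorem s_pow (x : Gen) : s x ^ 4 = 1 := by
  cases x
  · -- `g`
    have h9 : (M 0 * M 5) * (M 0 * M 5) = 1 := by
      calc (M 0 * M 5) * (M 0 * M 5) = (M 0 * M 5) * (M 5 * M 0) := by rw [rels.af]
        _ = M 0 * (M 5 * M 5) * M 0 := by simp only [mul_assoc]
        _ = 1 := by rw [rels.ff, mul_one, rels.aa]
    apply Subtype.ext
    apply Subtype.ext
    have e : (((s .g ^ 4 : Y) : SL45) : M45) = (M 6) ^ 4 := by
      rw [Subgroup.coe_pow, Matrix.SpecialLinearGroup.coe_pow]; rfl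
    have h8 : M 6 ^ 4 = (M 6 * M 6) * (M 6 * M 6) := by
      rw [← pow_two, ← pow_two, ← pow_mul]
    rw [e, h8, ← rels.afgg, h9]; rfl
  · exact sq_one rels.aa
  · exact sq_one rels.bb
  · exact sq_one rels.cc
  · exact sq_one rels.dd
  · exact sq_one rels.ee
  · exact sq_one rels.ff

theorem s_mem (hs : IsSimpleGroup ON) (hX : commutator ON = ⊤) (x : Gen) : s x ∈ commutator Y :=
  mem_commutator_of_pow (q_surj hs) (q_ker hs) hX (e := 3) (k := 4) (fun z hz => cube hs z hz) (s_pow x) (by norm_num)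

/-- the scalar 4 -/
def z : Y := (s .b * s .c * s .d * s .g) ^ 5

theorem coe_z : ((z : SL45) : M45) = (4 : ZMod 7) • (1 : M45) := rels.bcdg

theorem z_ne : z ≠ 1 := by
  intro h
  have h1 : ((z : SL45) : M45) = ((1 : Y) : SL45) := by rw [h]
  rw [coe_z] at h1
  have h2 := congrFun (congrFun h1 0) 0
  have h3 : (((1 : Y) : SL45) : M45) 0 0 = 1 := by
    show (1 : M45) 0 0 = 1
    exact Matrix.one_apply_eq 0
  rw [h3, Matrix.smul_apply, Matrix.one_apply_eq, smul_eq_mul, mul_one] at h2
  revert h2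
  decide

theorem q_z (hs : IsSimpleGroup ON) : q hs z = 1 := by
  apply rho_injective hs
  rw [rho_q, map_one]
  exact (QuotientGroup.eq_one_iff (z : SL45)).2 (mem_center_of_smul coe_z)

theorem orderOf_z (hs : IsSimpleGroup ON) : orderOf z = 3 := by
  haveI : Fact (Nat.Prime 3) := ⟨Nat.prime_three⟩
  exact orderOf_eq_prime (cube hs z (q_z hs)) z_ne

theorem exists_pce (hs : IsSimpleGroup ON) (hX : commutator ON = ⊤) :
    ∃ (L : Type) (_ : Group L) (_ : Finite L) (π : L →* ON), PCE π ∧ 3 ∣ Nat.card π.ker := by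
  refine exists_cover (q_surj hs) (q_ker hs) hX (z := z) ?_ (q_z hs) (by rw [orderOf_z hs])
  refine pow_mem (mul_mem (mul_mem (mul_mem ?_ ?_) ?_) ?_) 5
  · exact s_mem hs hX .b
  · exact s_mem hs hX .c
  · exact s_mem hs hX .d
  · exact s_mem hs hX .g

end Cfsg.Agent.H51.ONCover
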